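import Cfsg.Agent.Coprime.OmegaOne
import Cfsg.Agent.PSolv.Basic
import Cfsg.Agent.PLocal.ConjFam

/-! An element of odd order fixing all elements of order dividing 4 of a 2-group centralizes it. -/

set_option autoImplicit false
set_option linter.style.haveILetI false

open scoped commutatorElement

namespace Cfsg.Agent.CoprimeAct

variable {G : Type*} [Group G]

theorem closure_squares_ne_top {U : Type*} [Group U] [Finite U] (hU : IsPGroup 2 U) [Nontrivial U] :
    Subgroup.closure (Set.range fun u : U => u ^ 2) ≠ ⊤ := by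
  haveI : Fact (Nat.Prime 2) := ⟨Nat.prime_two⟩
  intro h
  haveI : Group.IsNilpotent U := hU.isNilpotent
  have hne : commutator U ≠ ⊤ := fun hc => by
    haveI : Group.IsPerfect U := Group.isPerfect_def.mpr hc
    exact Group.IsPerfect.not_isSolvable U inferInstance
  haveI : Nontrivial (Abelianization U) := by
    rw [← not_subsingleton_iff_nontrivial]
    exact fun hs => hne (QuotientGroup.subgroup_eq_top_of_subsingleton _ hs)
  let sq : Abelianization U →* Abelianization U := powMonoidHom 2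
  have hsurj : Function.Surjective sq := by
    rw [← MonoidHom.range_eq_top, eq_top_iff]
    rintro y -
    obtain ⟨u, rfl⟩ : ∃ u, Abelianization.of u = y := QuotientGroup.mk'_surjective _ y
    have : Subgroup.closure (Set.range fun u : U => u ^ 2) ≤ (sq.range).comap Abelianization.of := by
      refine (Subgroup.closure_le _).mpr ?_
      rintro _ ⟨v, rfl⟩
      exact ⟨Abelianization.of v, (map_pow Abelianization.of v 2).symm⟩
    exact this (h ▸ Subgroup.mem_top u)
  have hA : IsPGroup 2 (Abelianization U) := hU.to_quotient _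
  obtain ⟨n, hn, hcard⟩ := hA.nontrivial_iff_card.mp inferInstance
  obtain ⟨t, ht⟩ := exists_prime_orderOf_dvd_card' 2
    (show 2 ∣ Nat.card (Abelianization U) by rw [hcard]; exact dvd_pow_self 2 hn.ne')
  have h1 : t = 1 := (Finite.injective_iff_surjective.mpr hsurj) (by
    show t ^ 2 = (1 : Abelianization U) ^ 2
    rw [one_pow, ← ht, pow_orderOf_eq_one])
  rw [h1, orderOf_one] at ht
  exact absurd ht (by norm_num)

/-- An element of odd order fixing all elements of exponent 4 centralizes. -/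
theorem le_centralizer_of_omega_two [Finite G] {T : Subgroup G} (hT : IsPGroup 2 T) {x : G}
    (hxT : x ∈ Subgroup.normalizer (T : Set G)) (hx : (orderOf x).Coprime 2)
    (hfix : ∀ y ∈ T, y ^ 4 = 1 → x * y = y * x) : T ≤ Subgroup.centralizer {x} := by
  haveI : Fact (Nat.Prime 2) := ⟨Nat.prime_two⟩
  induction h : Nat.card T using Nat.strong_induction_on generalizing T with
  | _ n ih =>
  by_contra hnc
  set X := Subgroup.zpowers x with hX
  have hXT : X ≤ Subgroup.normalizer (T : Set G) := Subgroup.zpowers_le.mpr hxT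
  have hprop : ∀ V : Subgroup G, V ≤ T → X ≤ Subgroup.normalizer (V : Set G) → V ≠ T → V ≤ Subgroup.centralizer {x} := by
    intro V hV hVn hne
    refine ih (Nat.card V) ?_ (hT.to_le hV) (hVn (Subgroup.mem_zpowers x)) (fun y hy => hfix y (hV hy)) rfl
    rw [← h]
    exact ConjFam.card_lt (lt_of_le_of_ne hV hne)
  set w : G → G := fun y => y⁻¹ * (x * y * x⁻¹) with hw
  have hwT : ∀ y ∈ T, w y ∈ T := fun y hy =>
    T.mul_mem (T.inv_mem hy) ((Subgroup.mem_normalizer_iff.mp hxT y).mp hy)
  have hkey : ∀ y ∈ T, x * w y = w y * x → x * y = y * x := by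
    intro y hy hc
    have h1 := eq_one_of_commutes_commutator hT hx (hwT y hy) hc
    calc x * y = y * (y⁻¹ * (x * y * x⁻¹)) * x := by group
      _ = y * x := by rw [h1, mul_one]
  -- the subgroup generated by the `w y`
  set D := Subgroup.closure (w '' (T : Set G)) with hD
  have hDT : D ≤ T := (Subgroup.closure_le T).mpr (by rintro _ ⟨y, hy, rfl⟩; exact hwT y hy)
  have hDn : X ≤ Subgroup.normalizer (D : Set G) := normalizer_closure_of_invariant (H := X) (by
    rintro g ⟨i, rfl⟩ _ ⟨y, hy, rfl⟩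
    refine ⟨x ^ i * y * (x ^ i)⁻¹, (Subgroup.mem_normalizer_iff.mp (hXT ⟨i, rfl⟩) y).mp hy, ?_⟩
    show (x ^ i * y * (x ^ i)⁻¹)⁻¹ * (x * (x ^ i * y * (x ^ i)⁻¹) * x⁻¹) = x ^ i * (y⁻¹ * (x * y * x⁻¹)) * (x ^ i)⁻¹
    group)
  have hDeq : D = T := by
    by_contra hne
    exact hnc fun y hy => Subgroup.mem_centralizer_singleton_iff.mpr (hkey y hy
      (Subgroup.mem_centralizer_singleton_iff.mp
        (hprop D hDT hDn hne (Subgroup.subset_closure ⟨y, hy, rfl⟩))).symm).symm
  -- squares
  set V := Subgroup.closure ((fun y => y ^ 2) '' (T : Set G)) with hV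
  have hVT : V ≤ T := (Subgroup.closure_le T).mpr (by rintro _ ⟨y, hy, rfl⟩; exact T.pow_mem hy 2)
  haveI : Nontrivial ↥T := (Subgroup.nontrivial_iff_ne_bot T).mpr fun hb => hnc (hb ▸ bot_le)
  have hVne : V ≠ T := by
    intro hVe
    refine closure_squares_ne_top hT (Subgroup.map_injective T.subtype_injective ?_)
    rw [MonoidHom.map_closure, ← MonoidHom.range_eq_map, Subgroup.range_subtype, ← Set.range_comp]
    conv_rhs => rw [← hVe, hV]
    congr 1
    ext z
    constructor
    · rintro ⟨u, rfl⟩; exact ⟨u, u.2, rfl⟩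
    · rintro ⟨u, hu, rfl⟩; exact ⟨⟨u, hu⟩, rfl⟩
  have hVn : ∀ H : Subgroup G, H ≤ Subgroup.normalizer (T : Set G) → H ≤ Subgroup.normalizer (V : Set G) := by
    intro H hH
    refine normalizer_closure_of_invariant ?_
    rintro g hg _ ⟨y, hy, rfl⟩
    exact ⟨g * y * g⁻¹, (Subgroup.mem_normalizer_iff.mp (hH hg) y).mp hy, conj_pow⟩
  have hVc : V ≤ Subgroup.centralizer {x} := hprop V hVT (hVn X hXT) hVne
  have hcen : ∀ z ∈ V, ∀ t ∈ T, t * z = z * t := by
    intro z hz
    have hle : D ≤ Subgroup.centralizer {z} := by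
      refine (Subgroup.closure_le _).mpr ?_
      rintro _ ⟨y, hy, rfl⟩
      rw [SetLike.mem_coe, Subgroup.mem_centralizer_singleton_iff]
      set u := y * z * y⁻¹ with hudef
      have hu : u ∈ V := (Subgroup.mem_normalizer_iff.mp (hVn T Subgroup.le_normalizer hy) z).mp hz
      have hxu : u * x = x * u := (Subgroup.mem_centralizer_singleton_iff.mp (hVc hu))
      have hxz : z * x = x * z := (Subgroup.mem_centralizer_singleton_iff.mp (hVc hz))
      show y⁻¹ * (x * y * x⁻¹) * z = z * (y⁻¹ * (x * y * x⁻¹))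
      have e1 : x * (y * z * y⁻¹) * x⁻¹ = y * z * y⁻¹ := by rw [← hudef, ← hxu]; group
      have e2 : x⁻¹ * z = z * x⁻¹ := (show Commute x z from hxz.symm).inv_left.eq
      calc y⁻¹ * (x * y * x⁻¹) * z = y⁻¹ * x * y * (x⁻¹ * z) := by group
        _ = y⁻¹ * x * y * (z * x⁻¹) := by rw [e2]
        _ = y⁻¹ * (x * (y * z * y⁻¹) * x⁻¹) * (x * y * x⁻¹) := by group
        _ = y⁻¹ * (y * z * y⁻¹) * (x * y * x⁻¹) := by rw [e1]
        _ = z * (y⁻¹ * (x * y * x⁻¹)) := by group
    rw [hDeq] at hle
    exact fun t ht => Subgroup.mem_centralizer_singleton_iff.mp (hle ht)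
  refine hnc fun y hy => Subgroup.mem_centralizer_singleton_iff.mpr (Eq.symm ?_)
  refine hkey y hy (hfix _ (hwT y hy) ?_)
  obtain ⟨W, hWdef⟩ : ∃ W, W = w y := ⟨_, rfl⟩
  rw [← hWdef]
  have hWT : W ∈ T := hWdef ▸ hwT y hy
  have sqV : ∀ t ∈ T, t ^ 2 ∈ V := fun t ht => Subgroup.subset_closure ⟨t, ht, rfl⟩
  set c := W * y * W⁻¹ * y⁻¹ with hc
  have hcV : c ∈ V := by
    have e : c = (W * y) ^ 2 * (y⁻¹ * (W ^ 2)⁻¹ * y) * (y ^ 2)⁻¹ := by
      rw [hc, pow_two, pow_two, pow_two]; group
    rw [e]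
    refine V.mul_mem (V.mul_mem (sqV _ (T.mul_mem hWT hy)) ?_) (V.inv_mem (sqV _ hy))
    rw [mul_assoc, ← hcen _ (V.inv_mem (sqV _ hWT)) y hy, inv_mul_cancel_left]
    exact V.inv_mem (sqV _ hWT)
  have hWy : W * y = c * y * W := by rw [hc]; group
  have h2 : c * c = 1 := by
    have e1 : W * W * y = y * (W * W) := by
      have := hcen _ (sqV _ hWT) y hy
      rw [pow_two] at this
      exact this.symm
    have e2 : W * W * y = c * c * y * (W * W) := by
      calc W * W * y = W * (W * y) := by group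
        _ = W * c * y * W := by rw [hWy]; group
        _ = c * (W * y) * W := by rw [hcen _ hcV W hWT]; group
        _ = c * c * y * (W * W) := by rw [hWy]; group
    rw [e1] at e2
    have h3 := congrArg (fun z => z * (W * W)⁻¹ * y⁻¹) e2
    simpa [mul_assoc] using h3.symm
  have h3 : c * (W * W) = 1 := by
    have hy2 : (y * W) ^ 2 = y ^ 2 := by
      rw [show y * W = x * y * x⁻¹ by rw [hWdef]; simp only [hw]; group, conj_pow,
        show x * y ^ 2 = y ^ 2 * x from (Subgroup.mem_centralizer_singleton_iff.mp (hVc (sqV _ hy))).symm, mul_inv_cancel_right]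
    have e : (y * W) ^ 2 = y ^ 2 * (c * (W * W)) := by
      calc (y * W) ^ 2 = y * (W * y) * W := by rw [pow_two]; group
        _ = (y * c) * y * (W * W) := by rw [hWy]; group
        _ = y ^ 2 * (c * (W * W)) := by
          rw [mul_assoc y c, ← hcen _ hcV y hy, pow_two]; group
    rw [hy2] at e
    exact mul_left_cancel (a := y ^ 2) (by rw [mul_one]; exact e.symm)
  have h4 : W * W = c := by
    calc W * W = c * c * (W * W) := by rw [h2, one_mul]
      _ = c * (c * (W * W)) := by group
      _ = c := by rw [h3, mul_one]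
  calc W ^ 4 = (W * W) * (W * W) := by rw [show 4 = 2 + 2 from rfl, pow_add, pow_two]
    _ = 1 := by rw [h4, h2]

end Cfsg.Agent.CoprimeAct
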